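import Cfsg.Agent.H187.Ore.HNX1
import Cfsg.Agent.H651.HNF.Big
import Cfsg.Agent.StandardComponent.AltAut
import Cfsg.Agent.OddCyclic.EmpFFAlt

/-!
# S3509, the Harada-Norton group: involutory automorphisms centralizing elements of order 3 or 7 (helper474)

* `a9` : an automorphism `a` with `a² = 1` centralizing `X1` (a 3-cycle of `A12`) and an element `h` of order 5 or 7 of
  `C(X1)`: it centralizes some `w ∈ C(X1)` with `h (w h² w⁻¹)` an involution commuting with elements of order 7;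
* `a5` : the same with an element `x` of order 7 instead of `X1`.
-/

set_option autoImplicit false
set_option maxRecDepth 100000

namespace Cfsg.Agent.H474.RG.HN

open Subgroup
open Equiv.Perm (mem_alternatingGroup)

/-! ### permutations of 9 points -/

/-- cycle -/
def c9 (l : List (Fin 9)) : Equiv.Perm (Fin 9) := l.formPerm

/-- an involution commuting with a cycle of odd length commutes with the permutations of its support -/
theorem comm_of_cyc {c v s : Equiv.Perm (Fin 9)} {p : ℕ} (hs : s * s = 1) (hc : s * c = c * s) (h1 : c 0 ≠ 0)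
    (h2 : ∀ x, c x ≠ x → ∃ i : Fin p, x = (c ^ (i : ℕ)) 0)
    (h3 : ∀ i : Fin p, (c ^ (i : ℕ)) ((c ^ (i : ℕ)) 0) = 0 → (c ^ (i : ℕ)) 0 = 0)
    (hv : ∀ x, c x = x → v x = x) (hv' : ∀ x, c x ≠ x → c (v x) ≠ v x) : s * v = v * s := by
  have hcx : ∀ x, s (c x) = c (s x) := fun x => congrArg (fun f : Equiv.Perm (Fin 9) => f x) hc
  have hss : ∀ x, s (s x) = x := fun x => congrArg (fun f : Equiv.Perm (Fin 9) => f x) hs
  have hsp : ∀ (i : ℕ) (x : Fin 9), s ((c ^ i) x) = (c ^ i) (s x) := fun i x =>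
    congrArg (fun f : Equiv.Perm (Fin 9) => f x) ((show Commute s c from hc).pow_right i).eq
  have h0 : s 0 = 0 := by
    obtain ⟨i, hi⟩ := h2 (s 0) (by
      rw [← hcx]
      intro h
      exact h1 (s.injective h))
    have h4 := hss 0
    rw [hi, hsp, hi] at h4
    rw [hi, h3 i h4]
  have hfix : ∀ x, c x ≠ x → s x = x := by
    intro x hx
    obtain ⟨i, rfl⟩ := h2 x hx
    rw [hsp, h0]
  apply Equiv.ext
  intro x
  change s (v x) = v (s x)
  by_cases hx : c x = x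
  · rw [hv x hx, hv (s x) (by rw [← hcx, hx])]
  · rw [hfix x hx, hfix (v x) (hv' x hx)]

theorem conj_cycle {p : ℕ} (hp : p = 5 ∨ p = 7) {u : Equiv.Perm (Fin 9)} (hu : orderOf u = p) :
    u.cycleType = {p} := by
  obtain ⟨n, hn⟩ := Equiv.Perm.cycleType_prime_order (σ := u) (by rw [hu]; rcases hp with rfl | rfl <;> norm_num)
  rw [hu] at hn
  have h1 := u.sum_cycleType_le
  rw [hn, Multiset.sum_replicate, smul_eq_mul, Fintype.card_fin] at h1
  have h2 : n = 0 := by rcases hp with rfl | rfl <;> omega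
  rw [hn, h2]
  rfl

theorem perm_step {c v s0 : Equiv.Perm (Fin 9)} {p : ℕ} (hct : c.cycleType = {p}) (h1 : c 0 ≠ 0)
    (h2 : ∀ x, c x ≠ x → ∃ i : Fin p, x = (c ^ (i : ℕ)) 0)
    (h3 : ∀ i : Fin p, (c ^ (i : ℕ)) ((c ^ (i : ℕ)) 0) = 0 → (c ^ (i : ℕ)) 0 = 0)
    (hv : ∀ x, c x = x → v x = x) (hv' : ∀ x, c x ≠ x → c (v x) ≠ v x) (hm : v ∈ alternatingGroup (Fin 9))
    (hs : c * (v * (c * c) * v⁻¹) = s0) {u σ : Equiv.Perm (Fin 9)} (hu : u.cycleType = {p}) (hσ : σ * σ = 1)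
    (hc : σ * u = u * σ) :
    ∃ w : Equiv.Perm (Fin 9), w ∈ alternatingGroup (Fin 9) ∧ σ * w * σ⁻¹ = w ∧
      ∃ π : Equiv.Perm (Fin 9), u * (w * (u * u) * w⁻¹) = π * s0 * π⁻¹ := by
  obtain ⟨π, hπ⟩ := isConj_iff.1 (Equiv.Perm.isConj_iff_cycleType_eq.2 (hct.trans hu.symm))
  have hk := comm_of_cyc (s := π⁻¹ * σ * π) (v := v) (by
    calc π⁻¹ * σ * π * (π⁻¹ * σ * π) = π⁻¹ * (σ * σ) * π := by group
      _ = 1 := by rw [hσ]; group) (by
    calc π⁻¹ * σ * π * c = π⁻¹ * (σ * (π * c * π⁻¹)) * π := by group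
      _ = π⁻¹ * (π * c * π⁻¹ * σ) * π := by rw [hπ, hc]
      _ = c * (π⁻¹ * σ * π) := by group) h1 h2 h3 hv hv'
  refine ⟨π * v * π⁻¹, ?_, ?_, π, ?_⟩
  · rw [mem_alternatingGroup] at hm ⊢
    rw [map_mul, map_mul, hm, mul_one, ← map_mul, mul_inv_cancel, map_one]
  · calc σ * (π * v * π⁻¹) * σ⁻¹ = π * (π⁻¹ * σ * π * v) * π⁻¹ * σ⁻¹ := by group
      _ = π * (v * (π⁻¹ * σ * π)) * π⁻¹ * σ⁻¹ := by rw [hk]
      _ = π * v * π⁻¹ := by group
  · rw [← hπ, ← hs]
    group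

/-- the double transpositions -/
def s5 : Equiv.Perm (Fin 9) := c9 [1, 3] * c9 [2, 4]
def s7 : Equiv.Perm (Fin 9) := c9 [0, 5] * c9 [1, 6]

theorem perm_main {p : ℕ} (hp : p = 5 ∨ p = 7) {u σ : Equiv.Perm (Fin 9)} (hu : orderOf u = p) (hσ : σ * σ = 1)
    (hc : σ * u = u * σ) :
    ∃ w : Equiv.Perm (Fin 9), w ∈ alternatingGroup (Fin 9) ∧ σ * w * σ⁻¹ = w ∧
      ∃ π s0 : Equiv.Perm (Fin 9), (s0 = s5 ∨ s0 = s7) ∧ u * (w * (u * u) * w⁻¹) = π * s0 * π⁻¹ := by
  have hct := conj_cycle hp hu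
  rcases hp with rfl | rfl
  · obtain ⟨w, h1, h2, π, h3⟩ := perm_step (c := c9 [0, 1, 2, 3, 4]) (v := c9 [1, 2, 4]) (s0 := s5) (p := 5)
      (by decide +kernel) (by decide +kernel) (by decide +kernel) (by decide +kernel) (by decide +kernel)
      (by decide +kernel) (by rw [mem_alternatingGroup]; decide +kernel) (by decide +kernel) hct hσ hc
    exact ⟨w, h1, h2, π, s5, Or.inl rfl, h3⟩
  · obtain ⟨w, h1, h2, π, h3⟩ := perm_step (c := c9 [0, 1, 2, 3, 4, 5, 6]) (v := c9 [2, 4, 3, 5, 6]) (s0 := s7) (p := 7)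
      (by decide +kernel) (by decide +kernel) (by decide +kernel) (by decide +kernel) (by decide +kernel)
      (by decide +kernel) (by rw [mem_alternatingGroup]; decide +kernel) (by decide +kernel) hct hσ hc
    exact ⟨w, h1, h2, π, s7, Or.inr rfl, h3⟩

/-! ### the extension to 12 points -/

/-- the points `0, .., 8` -/
def f9 : Fin 9 ≃ {i : Fin 12 // i.val < 9} where
  toFun i := ⟨⟨i.1, by omega⟩, i.2⟩
  invFun i := ⟨i.1.1, i.2⟩
  left_inv _ := rfl
  right_inv _ := rfl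

/-- permutations of 9 points -/
def E : Equiv.Perm (Fin 9) →* Equiv.Perm (Fin 12) := Equiv.Perm.extendDomainHom f9

theorem E_inj : Function.Injective E := Equiv.Perm.extendDomainHom_injective f9

theorem E_mem {g : Equiv.Perm (Fin 9)} (hg : g ∈ alternatingGroup (Fin 9)) : E g ∈ alternatingGroup (Fin 12) := by
  rw [mem_alternatingGroup] at hg ⊢
  rw [← hg]
  exact Equiv.Perm.sign_extendDomain g f9

theorem mem_of_E {g : Equiv.Perm (Fin 9)} (hg : E g ∈ alternatingGroup (Fin 12)) : g ∈ alternatingGroup (Fin 9) := by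
  rw [mem_alternatingGroup] at hg ⊢
  rw [← hg]
  exact (Equiv.Perm.sign_extendDomain g f9).symm

theorem E_fix (g : Equiv.Perm (Fin 9)) {i : Fin 12} (hi : ¬ i.val < 9) : E g i = i :=
  Equiv.Perm.extendDomain_apply_not_subtype g f9 hi

theorem E_surj {q : Equiv.Perm (Fin 12)} (hq : ∀ i : Fin 12, ¬ i.val < 9 → q i = i) : ∃ g, E g = q := by
  have h1 : ∀ i : Fin 12, (q i).val < 9 ↔ i.val < 9 := by
    intro i
    constructor
    · intro h
      by_contra h2
      rw [hq i h2] at h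
      exact h2 h
    · intro h
      by_contra h2
      have h3 := q.injective (hq (q i) h2)
      rw [h3] at h2
      exact h2 h
  refine ⟨(Equiv.permCongr f9.symm) (q.subtypePerm h1), ?_⟩
  apply Equiv.ext
  intro i
  by_cases hi : i.val < 9
  · change (Equiv.Perm.extendDomain _ f9) i = _
    rw [Equiv.Perm.extendDomain_apply_subtype _ f9 hi]
    simp
  · rw [E_fix _ hi, hq i hi]

/-! ### automorphisms of a normal simple subgroup -/

theorem extend {Q G : Type*} [Group Q] [IsSimpleGroup Q] [Group G] (Θ : Q →* G) (hΘ : Function.Injective Θ) {X : G}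
    (hX : ∀ d, Θ d * X = X * Θ d) (H : ∀ y, y * X = X * y → y * y = 1 → ∃ d, Θ d = y)
    (hinv : ∃ d : Q, d * d = 1 ∧ d ≠ 1) {a : MulAut G} (haa : a * a = 1) (haX : a X = X) :
    ∃ α : MulAut Q, (∀ d, a (Θ d) = Θ (α d)) ∧ ∀ d, α (α d) = d := by
  have hcl : closure {d : Q | d * d = 1} = ⊤ := by
    have hn : (closure {d : Q | d * d = 1}).Normal := by
      constructor
      intro n hn g
      induction hn using closure_induction with
      | mem x hx =>
        refine subset_closure ?_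
        change g * x * g⁻¹ * (g * x * g⁻¹) = 1
        calc g * x * g⁻¹ * (g * x * g⁻¹) = g * (x * x) * g⁻¹ := by group
          _ = 1 := by rw [show x * x = 1 from hx]; group
      | one => rw [mul_one, mul_inv_cancel]; exact one_mem _
      | mul x y _ _ hx hy =>
        have e : g * (x * y) * g⁻¹ = g * x * g⁻¹ * (g * y * g⁻¹) := by group
        rw [e]; exact mul_mem hx hy
      | inv x _ hx =>
        have e : g * x⁻¹ * g⁻¹ = (g * x * g⁻¹)⁻¹ := by group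
        rw [e]; exact inv_mem hx
    rcases hn.eq_bot_or_eq_top with h | h
    · exfalso
      obtain ⟨d, h1, h2⟩ := hinv
      apply h2
      rw [← mem_bot, ← h]
      exact subset_closure h1
    · exact h
  have haa' : ∀ y, a (a y) = y := fun y => congrArg (fun f : MulAut G => f y) haa
  have hex : ∀ d : Q, ∃ d', Θ d' = a (Θ d) := by
    intro d
    have hd : d ∈ closure {d : Q | d * d = 1} := by rw [hcl]; exact mem_top _
    have hle : closure {d : Q | d * d = 1} ≤ (Θ.range.comap (a : G ≃* G).toMonoidHom).comap Θ := by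
      rw [closure_le]
      intro z hz
      refine H (a (Θ z)) ?_ ?_
      · have h1 := congrArg a (hX z)
        rw [map_mul, map_mul, haX] at h1
        exact h1
      · rw [← map_mul, ← map_mul, show z * z = 1 from hz, map_one, map_one]
    exact hle hd
  choose F hF using hex
  have hFF : ∀ d, F (F d) = d := fun d => hΘ (by rw [hF, hF, haa'])
  refine ⟨{ toFun := F, invFun := F, left_inv := hFF, right_inv := hFF, map_mul' := fun x y => hΘ ?_ }, ?_, ?_⟩
  · rw [hF, map_mul, map_mul, map_mul, hF, hF]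
  · intro d
    exact (hF d).symm
  · intro d
    exact hFF d

/-! ### `C(X1)` -/

open Cfsg Cfsg.Agent
open Cfsg.Agent.CpAutHN
open Cfsg.Agent.CpAutHN.Alt
open Cfsg.Agent.CpAutHN.Pairs

/-- the alternating group of degree 9 -/
abbrev A9 : Type := alternatingGroup (Fin 9)

/-- `A9 ≤ A12` -/
noncomputable def EA : A9 →* A12 :=
  ((E.comp (alternatingGroup (Fin 9)).subtype)).codRestrict (alternatingGroup (Fin 12)) fun d => E_mem d.2

theorem EA_coe (d : A9) : (EA d : Equiv.Perm (Fin 12)) = E d := rfl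

/-- `A9 ≤ HN` -/
noncomputable def Θ : A9 →* G := Φ.comp EA

theorem Θ_apply (d : A9) : Θ d = Φ ⟨E d, E_mem d.2⟩ := rfl

theorem Θ_inj : Function.Injective Θ := by
  intro x y h
  apply Subtype.ext
  apply E_inj
  exact congrArg Subtype.val (Φ_inj h)

theorem E_comm (g : Equiv.Perm (Fin 9)) : E g * x1 = x1 * E g := by
  have h : Equiv.Perm.Disjoint (E g) x1 := by
    intro i
    by_cases hi : i.val < 9
    · right
      revert i
      decide +kernel
    · left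
      exact E_fix g hi
  exact h.commute.eq

theorem Θ_comm (d : A9) : Θ d * X1 = X1 * Θ d := comm_of (E_mem d.2) x1_mem (E_comm d)

/-- the elements of `C(X1)` -/
theorem decomp {y : G} (h : y * X1 = X1 * y) : ∃ d : A9, ∃ i : ℕ, y = Θ d * X1 ^ i := by
  obtain ⟨⟨f, hf⟩, rfl⟩ := H187.Ore.HNX1.exists_perm h
  have hfx : f * x1 = x1 * f := by
    have h1 : (⟨f, hf⟩ : A12) * ⟨x1, x1_mem⟩ = ⟨x1, x1_mem⟩ * ⟨f, hf⟩ := by
      apply Φ_inj
      rw [map_mul, map_mul]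
      exact h
    exact congrArg Subtype.val h1
  have hc : ∀ i, f (x1 i) = x1 (f i) := fun i => congrArg (fun g : Equiv.Perm (Fin 12) => g i) hfx
  have h9 : ∃ i : Fin 3, f 9 = (x1 ^ (i : ℕ)) 9 := by
    have h1 : ∀ j : Fin 12, x1 j ≠ j → ∃ i : Fin 3, j = (x1 ^ (i : ℕ)) 9 := by decide +kernel
    apply h1
    rw [← hc]
    intro h2
    exact absurd (f.injective h2) (by decide +kernel)
  obtain ⟨i, hi⟩ := h9
  have hcp : f * x1 ^ (i : ℕ) = x1 ^ (i : ℕ) * f := ((show Commute f x1 from hfx).pow_right _).eq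
  have hq9 : ((x1 ^ (i : ℕ))⁻¹ * f) 9 = 9 := by
    rw [Equiv.Perm.mul_apply, Equiv.Perm.inv_eq_iff_eq, hi]
  have hqc : ∀ j, ((x1 ^ (i : ℕ))⁻¹ * f) (x1 j) = x1 (((x1 ^ (i : ℕ))⁻¹ * f) j) := by
    have h1 : Commute ((x1 ^ (i : ℕ))⁻¹ * f) x1 :=
      (((Commute.refl x1).pow_left _).inv_left).mul_left hfx
    exact fun j => congrArg (fun g : Equiv.Perm (Fin 12) => g j) h1.eq
  have hq : ∀ j : Fin 12, ¬ j.val < 9 → ((x1 ^ (i : ℕ))⁻¹ * f) j = j := by
    intro j hj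
    have h1 : ∀ j : Fin 12, ¬ j.val < 9 → j = 9 ∨ j = x1 9 ∨ j = x1 (x1 9) := by decide +kernel
    rcases h1 j hj with rfl | rfl | rfl
    · exact hq9
    · rw [hqc, hq9]
    · rw [hqc, hqc, hq9]
  obtain ⟨g, hg⟩ := E_surj hq
  have hmem : g ∈ alternatingGroup (Fin 9) := by
    apply mem_of_E
    rw [hg]
    exact mul_mem (inv_mem (pow_mem x1_mem _)) hf
  refine ⟨⟨g, hmem⟩, i, ?_⟩
  rw [Θ_apply, X1, ← map_pow, ← map_mul]
  congr 1
  apply Subtype.ext
  change f = E g * x1 ^ (i : ℕ)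
  rw [hg, mul_assoc, hcp, inv_mul_cancel_left]

/-- elements of `C(X1)` of order prime to 3 -/
theorem mem_of_pow {y : G} {m : ℕ} (hm : ¬ 3 ∣ m) (hy : y ^ m = 1) (hc : y * X1 = X1 * y) : ∃ d : A9, Θ d = y := by
  obtain ⟨d, i, rfl⟩ := decomp hc
  have h1 : Commute (Θ d) (X1 ^ i) := (show Commute (Θ d) X1 from Θ_comm d).pow_right i
  rw [h1.mul_pow, ← map_pow, ← pow_mul] at hy
  have h2 : E ((d : Equiv.Perm (Fin 9)) ^ m) * x1 ^ (i * m) = 1 := by
    have h3 : Φ (EA (d ^ m) * ⟨x1, x1_mem⟩ ^ (i * m)) = 1 := by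
      have h4 : Φ (⟨x1, x1_mem⟩ ^ (i * m)) = X1 ^ (i * m) := map_pow Φ _ _
      rw [map_mul, h4]
      exact hy
    have h4 : EA (d ^ m) * ⟨x1, x1_mem⟩ ^ (i * m) = 1 := Φ_inj (by rw [h3, map_one])
    exact congrArg Subtype.val h4
  have h3 : (x1 ^ (i * m)) 9 = 9 := by
    have h4 : x1 ^ (i * m) = (E ((d : Equiv.Perm (Fin 9)) ^ m))⁻¹ := (inv_eq_of_mul_eq_one_right h2).symm
    rw [h4, Equiv.Perm.inv_eq_iff_eq, E_fix _ (by decide)]
  have h4 : x1 ^ 3 = 1 := by decide +kernel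
  have h5 : 3 ∣ i * m := by
    have h6 : x1 ^ (i * m) = x1 ^ (i * m % 3) := by
      conv_lhs => rw [← Nat.div_add_mod (i * m) 3, pow_add, pow_mul, h4, one_pow, one_mul]
    rw [h6] at h3
    have h7 : i * m % 3 < 3 := Nat.mod_lt _ (by norm_num)
    apply Nat.dvd_of_mod_eq_zero
    generalize i * m % 3 = j at h3 h7 ⊢
    have h8 : ∀ j : Fin 3, (x1 ^ (j : ℕ)) 9 = 9 → (j : ℕ) = 0 := by decide +kernel
    exact h8 ⟨j, h7⟩ h3
  have h6 : 3 ∣ i := ((Nat.Prime.dvd_mul Nat.prime_three).1 h5).resolve_right hm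
  obtain ⟨j, rfl⟩ := h6
  refine ⟨d, ?_⟩
  rw [pow_mul, show X1 ^ 3 = 1 by rw [← order_X1, pow_orderOf_eq_one], one_pow, mul_one]

theorem seven_of {f g : Equiv.Perm (Fin 12)} (hf : f ∈ alternatingGroup (Fin 12)) (hg : g ∈ alternatingGroup (Fin 12))
    (h7 : g ^ 7 = 1) (h1 : g ≠ 1) (hc : g * f = f * g) : 7 ∣ Nat.card ↥(centralizer ({Φ ⟨f, hf⟩} : Set G)) := by
  have h2 : orderOf (Φ ⟨g, hg⟩) = 7 := by
    have : Fact (Nat.Prime 7) := ⟨by norm_num⟩
    rw [orderOf_injective Φ Φ_inj]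
    apply orderOf_eq_prime
    · exact Subtype.ext h7
    · intro h
      exact h1 (congrArg Subtype.val h)
  have h3 : Φ ⟨g, hg⟩ ∈ centralizer ({Φ ⟨f, hf⟩} : Set G) :=
    mem_centralizer_singleton_iff.2 (comm_of hg hf hc)
  have h4 := orderOf_dvd_natCard (⟨Φ ⟨g, hg⟩, h3⟩ : ↥(centralizer ({Φ ⟨f, hf⟩} : Set G)))
  rwa [Subgroup.orderOf_mk, h2] at h4

/-- elements of order 7 commuting with the double transpositions -/
theorem exists_seven {s0 : Equiv.Perm (Fin 9)} (hs : s0 = s5 ∨ s0 = s7) (π : Equiv.Perm (Fin 9)) :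
    ∃ g : Equiv.Perm (Fin 12), g ∈ alternatingGroup (Fin 12) ∧ g ^ 7 = 1 ∧ g ≠ 1 ∧
      g * E (π * s0 * π⁻¹) = E (π * s0 * π⁻¹) * g := by
  obtain ⟨g, hg, h7, h1, hc⟩ : ∃ g : Equiv.Perm (Fin 12), g ∈ alternatingGroup (Fin 12) ∧ g ^ 7 = 1 ∧ g ≠ 1 ∧
      g * E s0 = E s0 * g := by
    rcases hs with rfl | rfl
    · exact ⟨cy [5, 6, 7, 8, 9, 10, 11], by rw [mem_alternatingGroup]; decide +kernel, by decide +kernel,
        by decide +kernel, by decide +kernel⟩
    · exact ⟨cy [2, 3, 4, 7, 8, 9, 10], by rw [mem_alternatingGroup]; decide +kernel, by decide +kernel,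
        by decide +kernel, by decide +kernel⟩
  refine ⟨E π * g * (E π)⁻¹, ?_, ?_, ?_, ?_⟩
  · rw [mem_alternatingGroup] at hg ⊢
    rw [map_mul, map_mul, hg, mul_one, ← map_mul, mul_inv_cancel, map_one]
  · rw [conj_pow, h7, mul_one, mul_inv_cancel]
  · intro h
    exact h1 (conj_eq_one_iff.1 h)
  · rw [map_mul, map_mul, map_inv]
    calc E π * g * (E π)⁻¹ * (E π * E s0 * (E π)⁻¹) = E π * (g * E s0) * (E π)⁻¹ := by group
      _ = E π * (E s0 * g) * (E π)⁻¹ := by rw [hc]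
      _ = E π * E s0 * (E π)⁻¹ * (E π * g * (E π)⁻¹) := by group

instance simple_A9 : IsSimpleGroup A9 := alternatingGroup.isSimpleGroup (by
  rw [Nat.card_eq_fintype_card, Fintype.card_fin]; norm_num)

/-- the automorphism is a permutation of the 9 points -/
theorem exists_sigma {a : MulAut G} (haa : a * a = 1) (h1 : a X1 = X1) :
    ∃ α : MulAut A9, ∃ σ : Equiv.Perm (Fin 9), (∀ d, a (Θ d) = Θ (α d)) ∧
      (∀ d, ((α d : A9) : Equiv.Perm (Fin 9)) = σ * d * σ⁻¹) ∧ σ * σ = 1 := by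
  obtain ⟨α, hα, hαα⟩ := extend Θ Θ_inj Θ_comm (fun y hc hy => mem_of_pow (m := 2) (by norm_num)
    (by rw [pow_two, hy]) hc) ⟨⟨s5, by rw [mem_alternatingGroup]; decide +kernel⟩, Subtype.ext (by
      change s5 * s5 = 1
      decide +kernel), fun h => absurd (congrArg Subtype.val h) (by
      change s5 ≠ 1
      decide +kernel)⟩ haa h1
  obtain ⟨σ, hσ⟩ := StandardComponent.AltAut.exists_conj (m := 7) (by norm_num) α
  refine ⟨α, σ, hα, hσ, ?_⟩
  apply StandardComponent.AltAut.eq_one_of_centralizes (m := 7) (by norm_num)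
  intro x
  have h2 := hσ (α x)
  rw [hαα, hσ x] at h2
  rw [mul_inv_rev]
  calc σ * σ * (x : Equiv.Perm (Fin 9)) * (σ⁻¹ * σ⁻¹) = σ * (σ * x * σ⁻¹) * σ⁻¹ := by group
    _ = x := h2.symm

/-- **`a` centralizes `X1` and an element of order 5 or 7** -/
theorem a9 {a : MulAut Spor.HN} (haa : a * a = 1) (h1 : a X1 = X1) {h : Spor.HN} {p : ℕ} (hp : p = 5 ∨ p = 7)
    (ho : orderOf h = p) (hc : h * X1 = X1 * h) (hah : a h = h) : ∃ w : Spor.HN, ∃ k : ℕ,
      w * X1 = X1 * w ∧ a w = w ∧ orderOf (h * (w * h ^ k * w⁻¹)) = 2 ∧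
      7 ∣ Nat.card (centralizer ({h * (w * h ^ k * w⁻¹)} : Set Spor.HN)) := by
  obtain ⟨α, σ, hα, hσ, hσσ⟩ := exists_sigma haa h1
  obtain ⟨u, rfl⟩ := mem_of_pow (y := h) (m := p) (by rcases hp with rfl | rfl <;> norm_num)
    (by rw [← ho, pow_orderOf_eq_one]) hc
  have hu : orderOf (u : Equiv.Perm (Fin 9)) = p := by
    rw [Subgroup.orderOf_coe, ← orderOf_injective Θ Θ_inj, ho]
  have hσu : σ * (u : Equiv.Perm (Fin 9)) = u * σ := by
    have h2 : α u = u := Θ_inj (by rw [← hα, hah])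
    have h3 := hσ u
    rw [h2] at h3
    exact (eq_mul_inv_iff_mul_eq.1 h3).symm
  obtain ⟨w, hw, hwσ, π, s0, hs, he⟩ := perm_main hp hu hσσ hσu
  have hel : Θ u * (Θ ⟨w, hw⟩ * Θ u ^ 2 * (Θ ⟨w, hw⟩)⁻¹) = Θ (u * (⟨w, hw⟩ * (u * u) * ⟨w, hw⟩⁻¹)) := by
    rw [map_mul, map_mul, map_mul, map_mul, map_inv, pow_two]
  have hval : ((u * (⟨w, hw⟩ * (u * u) * ⟨w, hw⟩⁻¹) : A9) : Equiv.Perm (Fin 9)) = π * s0 * π⁻¹ := he
  refine ⟨Θ ⟨w, hw⟩, 2, Θ_comm _, ?_, ?_, ?_⟩
  · rw [hα]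
    congr 1
    exact Subtype.ext ((hσ _).trans hwσ)
  · rw [hel, orderOf_injective Θ Θ_inj, ← Subgroup.orderOf_coe, hval]
    have h4 : orderOf (π * s0 * π⁻¹) = orderOf s0 := MulEquiv.orderOf_eq (MulAut.conj π) s0
    rw [h4]
    apply orderOf_eq_prime
    · rcases hs with rfl | rfl <;> decide +kernel
    · rcases hs with rfl | rfl <;> decide +kernel
  · rw [hel, Θ_apply]
    obtain ⟨g, hg, h7, hg1, hgc⟩ := exists_seven hs π
    refine seven_of _ hg h7 hg1 ?_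
    rw [hval]
    exact hgc

/-! ### elements of order 7 -/

abbrev A5 : Type := alternatingGroup (Fin 5)

theorem A5_inv : ∀ a : A5, a * a * a * a * a = 1 → a ≠ 1 →
    ∃ b : A5, a * (b * (a * a) * b⁻¹) * (a * (b * (a * a) * b⁻¹)) = 1 ∧ a * (b * (a * a) * b⁻¹) ≠ 1 := by
  decide +kernel

theorem S5_comm : ∀ s : Equiv.Perm (Fin 5), s * s = 1 → s ≠ 1 → ∀ u : Equiv.Perm (Fin 5),
    u * u * u * u * u = 1 → u ≠ 1 → s * u ≠ u * s := by decide +kernel

/-- elements of order prime to 7 of `C(x)` -/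
theorem mem_K {x : Spor.HN} {K : Subgroup Spor.HN} (D : H651.HNF.DP 7 x K) {y : Spor.HN} {m : ℕ} (hm : ¬ 7 ∣ m)
    (hy : y ^ m = 1) (hc : y * x = x * y) : y ∈ K := by
  obtain ⟨i, k, hk, rfl⟩ := D.exists_mul hc
  have h1 : (x ^ i * k) ^ m = (x ^ i) ^ m * k ^ m := ((D.pow_comm i hk).symm).mul_pow m
  rw [h1] at hy
  have h2 : (x ^ i) ^ m = (k ^ m)⁻¹ := eq_inv_of_mul_eq_one_left hy
  have h3 : (x ^ i) ^ m = 1 := by
    refine D.disj ?_ ?_
    · exact pow_mem (pow_mem (mem_zpowers x) i) m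
    · rw [h2]; exact K.inv_mem (K.pow_mem hk m)
  have h4 : 7 ∣ i * m := by
    rw [← D.hx]
    apply orderOf_dvd_of_pow_eq_one
    rw [pow_mul, h3]
  have h5 : 7 ∣ i := ((Nat.Prime.dvd_mul (by norm_num)).1 h4).resolve_right hm
  obtain ⟨j, rfl⟩ := h5
  have h6 : x ^ (7 * j) = 1 := by rw [pow_mul, ← D.hx, pow_orderOf_eq_one, one_pow]
  rw [h6, one_mul]
  exact hk

/-- `C(x)` for `x` of order 7 -/
theorem exists_theta {x : Spor.HN} (hx : orderOf x = 7) : ∃ T : A5 →* Spor.HN, Function.Injective T ∧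
    (∀ d, T d * x = x * T d) ∧ ∀ y m, ¬ 7 ∣ m → y ^ m = 1 → y * x = x * y → ∃ d, T d = y := by
  obtain ⟨x', K, D, ⟨e⟩, hall⟩ := H651.HNF.dp7
  obtain ⟨c, hcx⟩ := isConj_iff.1 (hall x hx)
  refine ⟨((MulAut.conj c).toMonoidHom.comp K.subtype).comp e.symm.toMonoidHom, ?_, ?_, ?_⟩
  · intro u v h
    have h1 : c * ((e.symm u : K) : Spor.HN) * c⁻¹ = c * ((e.symm v : K) : Spor.HN) * c⁻¹ := h
    exact e.symm.injective (Subtype.ext (mul_left_cancel (mul_right_cancel h1)))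
  · intro d
    change c * ((e.symm d : K) : Spor.HN) * c⁻¹ * x = x * (c * ((e.symm d : K) : Spor.HN) * c⁻¹)
    rw [← hcx]
    calc c * ((e.symm d : K) : Spor.HN) * c⁻¹ * (c * x' * c⁻¹) = c * (((e.symm d : K) : Spor.HN) * x') * c⁻¹ := by
          group
      _ = c * (x' * ((e.symm d : K) : Spor.HN)) * c⁻¹ := by rw [D.comm _ (e.symm d : K).2]
      _ = _ := by group
  · intro y m hm hy hc
    have h1 : c⁻¹ * y * c⁻¹⁻¹ ∈ K := by
      refine mem_K D hm ?_ ?_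
      · rw [conj_pow, hy, mul_one, mul_inv_cancel]
      · calc c⁻¹ * y * c⁻¹⁻¹ * x' = c⁻¹ * (y * (c * x' * c⁻¹)) * c := by group
          _ = c⁻¹ * (c * x' * c⁻¹ * y) * c := by rw [hcx, hc]
          _ = x' * (c⁻¹ * y * c⁻¹⁻¹) := by group
    refine ⟨e ⟨_, h1⟩, ?_⟩
    change c * ((e.symm (e ⟨_, h1⟩) : K) : Spor.HN) * c⁻¹ = y
    rw [e.symm_apply_apply]
    group

instance simple_A5 : IsSimpleGroup A5 := alternatingGroup.isSimpleGroup (by
  rw [Nat.card_eq_fintype_card, Fintype.card_fin])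

/-- **`a` centralizes commuting elements of orders 7 and 5** -/
theorem a5 {a : MulAut Spor.HN} (haa : a * a = 1) {x h : Spor.HN} (hx : orderOf x = 7) (hh : orderOf h = 5)
    (hc : h * x = x * h) (hax : a x = x) (hah : a h = h) :
    ∃ w : Spor.HN, w * x = x * w ∧ a w = w ∧ orderOf (h * (w * (h * h) * w⁻¹)) = 2 := by
  obtain ⟨T, hT, hTx, hTs⟩ := exists_theta hx
  obtain ⟨α, hα, hαα⟩ := extend T hT hTx (fun y h1 h2 => hTs y 2 (by norm_num) (by rw [pow_two, h2]) h1)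
    ⟨⟨([0, 1] : List (Fin 5)).formPerm * ([2, 3] : List (Fin 5)).formPerm, by
      rw [mem_alternatingGroup]; decide +kernel⟩, by decide +kernel, by decide +kernel⟩ haa hax
  obtain ⟨σ, hσ⟩ := OddCyclic.EmpFFAlt.exists_conj α
  have hσσ : σ * σ = 1 := by
    apply StandardComponent.AltAut.eq_one_of_centralizes (m := 3) (by norm_num)
    intro x
    have h2 := hσ (α x)
    rw [hαα, hσ x] at h2
    rw [mul_inv_rev]
    calc σ * σ * (x : Equiv.Perm (Fin 5)) * (σ⁻¹ * σ⁻¹) = σ * (σ * x * σ⁻¹) * σ⁻¹ := by group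
      _ = x := h2.symm
  have h5 : h ^ 5 = 1 := by rw [← hh, pow_orderOf_eq_one]
  obtain ⟨u, hu⟩ := hTs h 5 (by norm_num) h5 hc
  subst hu
  have hu5 : u * u * u * u * u = 1 := by
    apply hT
    rw [map_mul, map_mul, map_mul, map_mul, map_one, ← h5]
    simp only [pow_succ, pow_zero, one_mul]
  have hu1 : u ≠ 1 := by
    rintro rfl
    rw [map_one, orderOf_one] at hh
    norm_num at hh
  have hσu : σ * (u : Equiv.Perm (Fin 5)) = u * σ := by
    have h2 : α u = u := hT (by rw [← hα, hah])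
    have h3 := hσ u
    rw [h2] at h3
    exact (eq_mul_inv_iff_mul_eq.1 h3).symm
  have hσ1 : σ = 1 := by
    by_contra h6
    exact S5_comm σ hσσ h6 u (congrArg Subtype.val hu5) (fun h7 => hu1 (Subtype.ext h7)) hσu
  obtain ⟨b, hb1, hb2⟩ := A5_inv u hu5 hu1
  refine ⟨T b, hTx b, ?_, ?_⟩
  · rw [hα]
    congr 1
    apply Subtype.ext
    rw [hσ, hσ1, one_mul, inv_one, mul_one]
  · rw [← map_mul, ← map_mul, ← map_inv, ← map_mul, ← map_mul, orderOf_injective T hT]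
    exact orderOf_eq_prime (by rw [pow_two, hb1]) hb2

end Cfsg.Agent.H474.RG.HN
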