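import Cfsg.Agent.H474.RG.Co3Gen
import Cfsg.Agent.H209.PiSpor.Spor

/-!
# Regular cycles (S3509): the row `Co₃`, conclusion (helper474)

* `minIx` : proper subgroups of `Co₃` have index at least 276 (orders of simple groups exclude everything but 23 and 46,
  Ree's inequality for the (2, 3, 7) generators excludes these);
* **`rc`** : `RC S` for `S ≅ Co₃`.
-/

set_option autoImplicit false
set_option maxRecDepth 1000000

namespace Cfsg.Agent.H474.RG.Co3

open Cfsg MulAction Cfsg.Agent.H345.RG Cfsg.Agent.H940 Cfsg.Agent.H940.Eng Cfsg.Agent.H940.Eng.D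
open Cfsg.Agent.H970.Sep.RowCo3 Cfsg.Agent.H147.Fpr Cfsg.Agent.H147.Fpr.Co3 Cfsg.Agent.H106.RC
open Cfsg.Agent.H763.Co3.Fin (eN)

/-- the possible indices below 276 -/
theorem idx_chk : ((List.range 276).all fun k => Nat.ble k 1 || !(n_co3 % k == 0) || k == 23 || k == 46 ||
    bad l_co3 n_co3 [] 20 loc o_co3 (n_co3 / k)) = true := by decide +kernel

theorem minIx (B : Eng.Base) : MinIx G 276 := by
  have hf := fin
  have hs := simple
  intro H hH
  by_contra hlt
  push Not at hlt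
  have hc : Nat.card H * H.index = n_co3 := by rw [Subgroup.card_mul_index, card]
  have hn : 0 < n_co3 := by decide +kernel
  have hd : H.index ∣ n_co3 := ⟨_, by rw [mul_comm]; exact hc.symm⟩
  have hpos : 0 < H.index := Nat.pos_of_dvd_of_pos hd hn
  have h1 : H.index ≠ 1 := fun h => hH (Subgroup.index_eq_one.1 h)
  have hcard : n_co3 / H.index = Nat.card H := by rw [← hc, Nat.mul_div_cancel _ hpos]
  have h2 := List.all_eq_true.1 idx_chk H.index (List.mem_range.2 hlt)
  have hb : bad l_co3 n_co3 [] 20 loc o_co3 (Nat.card H) = false :=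
    not_bad (ctx B).val card (ctx B).ords (ctx B).loc (fun p hp => absurd hp List.not_mem_nil) hH
  rw [hcard, hb] at h2
  simp only [Bool.or_eq_true, Bool.not_eq_true', beq_iff_eq, beq_eq_false_iff_ne, Nat.ble_eq, Bool.false_eq_true, or_false] at h2
  have h3 : H.index = 23 ∨ H.index = 46 := by
    rcases h2 with ((h2 | h2) | h2) | h2
    · omega
    · exact absurd (Nat.mod_eq_zero_of_dvd hd) h2
    · exact Or.inl h2
    · exact Or.inr h2
  -- Ree's inequality
  have := Fintype.ofFinite (G ⧸ H)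
  have r1 := ree_two (Ω := G ⧸ H) (genUV B)
  have r2 := rk_prime (Ω := G ⧸ H) Nat.prime_two oU
  have r3 := rk_prime (Ω := G ⧸ H) Nat.prime_three oV
  have o7 : orderOf (wd U * wd V)⁻¹ = 7 := by rw [orderOf_inv, oUV]
  have r7 := rk_prime (Ω := G ⧸ H) (p := 7) (by norm_num) o7
  have m3 := fix_modEq (Ω := G ⧸ H) Nat.prime_three oV
  have m7 := fix_modEq (Ω := G ⧸ H) (p := 7) (by norm_num) o7
  have h6 : Nat.card (G ⧸ H) = H.index := rfl
  rw [← Nat.card_eq_fintype_card] at r1 r2 r3 r7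
  rw [h6] at r1 r2 r3 r7 m3 m7
  rcases h3 with h3 | h3 <;> rw [h3] at r1 r2 r3 r7 m3 m7 <;> omega

/-- the bounds -/
def β (p : ℕ) : ℚ :=
  if p = 2 then 1 - 2 * (1 - 1 / 276) / (3 * (2 - 1))
  else if p = 3 then 1 - 3 * (1 - 1 / 276) / (2 * (3 - 1))
  else if p = 5 then 1 - 5 * (1 - 1 / 276) / (2 * (5 - 1))
  else if p = 7 then 42 / 276
  else if p = 11 then 22 / 276
  else 23 / 276

theorem β_nonneg (p : ℕ) : 0 ≤ β p := by
  unfold β
  split_ifs <;> norm_num

/-- conjugates of an element of `Co₃` -/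
theorem gen_of {k : ℕ} {x : G} (h : GP Cfsg.Agent.H763.Co3.Model.N k (eN x : Equiv.Perm (Fin 552))) :
    ∃ L : List G, L.length = k ∧ Gen x L = ⊤ := h.gen eN

theorem f2 (B : Eng.Base) {k p : ℕ} (hk : 0 < k) (hp : p.Prime) {x : G} (h1 : x ^ p = 1) (h0 : x ≠ 1)
    (h : GP Cfsg.Agent.H763.Co3.Model.N k (eN x : Equiv.Perm (Fin 552))) :
    FB G x (1 - p * (1 - 1 / (276 : ℕ)) / (k * (p - 1))) := by
  have := fin
  obtain ⟨L, hL, hg⟩ := gen_of h
  have h2 := FB.F2 (by norm_num) (minIx B) hp h1 h0 L (by rintro rfl; rw [List.length_nil] at hL; omega) hg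
  rw [hL] at h2
  exact h2

theorem cent_seven {x : G} (hx : orderOf x = 7) : Nat.card (Subgroup.centralizer ({x} : Set G)) = 42 := by
  have := fin
  rw [← H715.Fpr.cent_zpowers']
  exact (Cfsg.Agent.H970.Sep.Co3.cn7 iso (Subgroup.zpowers x) (by rw [Nat.card_zpowers, hx])).1

theorem cent_eleven {x : G} (hx : orderOf x = 11) : Nat.card (Subgroup.centralizer ({x} : Set G)) = 22 := by
  have := fin
  rw [← H715.Fpr.cent_zpowers']
  exact Cfsg.Agent.H555.TwoSp.c11 iso (Subgroup.zpowers x) (by rw [Nat.card_zpowers, hx])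

theorem cent_23 {x : G} (hx : orderOf x = 23) : Nat.card (Subgroup.centralizer ({x} : Set G)) = 23 := by
  have := fin
  rw [← H715.Fpr.cent_zpowers']
  exact Cfsg.Agent.H555.TwoSp.c23 iso (Subgroup.zpowers x) (by rw [Nat.card_zpowers, hx])

theorem prime_cases {p : ℕ} (hp : p.Prime) (hd : p ∣ Nat.card G) : p = 2 ∨ p = 3 ∨ p = 5 ∨ p = 7 ∨ p = 11 ∨ p = 23 := by
  rw [card] at hd
  have h := H715.Fpr.valid_mem v_co3 hp hd
  simpa only [l_co3, List.map_cons, List.map_nil, List.mem_cons, List.not_mem_nil, or_false] using h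

theorem fb (B : Eng.Base) {p : ℕ} {x : G} (hp : p.Prime) (h1 : x ^ p = 1) (h0 : x ≠ 1) : FB G x (β p) := by
  have := fin
  have : Fact p.Prime := ⟨hp⟩
  have ho : orderOf x = p := orderOf_eq_prime h1 h0
  have hd : p ∣ Nat.card G := ho ▸ orderOf_dvd_natCard x
  have hq := gp_all B (eN x).2
  have e1 : ∀ {k : ℕ}, x ^ k = 1 → ((eN x : Equiv.Perm (Fin 552))) ^ k = 1 := fun {k} h => by
    rw [← Subgroup.coe_pow, ← map_pow, h, map_one]; rfl
  have e0 : (eN x : Equiv.Perm (Fin 552)) ≠ 1 := fun h => h0 (eN.injective (Subtype.ext (by rw [h, map_one]; rfl)))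
  rcases prime_cases hp hd with rfl | rfl | rfl | rfl | rfl | rfl
  · have h := f2 B (by norm_num) hp h1 h0 (hq.1 (e1 h1) e0)
    exact h.mono (le_of_eq (by unfold β; norm_num))
  · have h := f2 B (by norm_num) hp h1 h0 (hq.2.1 (e1 h1) e0)
    exact h.mono (le_of_eq (by unfold β; norm_num))
  · have h := f2 B (by norm_num) hp h1 h0 (hq.2.2 (e1 h1) e0)
    exact h.mono (le_of_eq (by unfold β; norm_num))
  · exact (FB.F1 (by norm_num) (minIx B) (cent_seven ho).le).mono (le_of_eq (by unfold β; norm_num))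
  · exact (FB.F1 (by norm_num) (minIx B) (cent_eleven ho).le).mono (le_of_eq (by unfold β; norm_num))
  · exact (FB.F1 (by norm_num) (minIx B) (cent_23 ho).le).mono (le_of_eq (by unfold β; norm_num))

theorem noCov (B : Eng.Base) : NoCov G := by
  have := fin
  refine noCov_of_fpr (fun α => ?_) β (fun p x hp h1 h0 => fb B hp h1 h0) ?_
  · obtain ⟨s, hs⟩ := Cfsg.Agent.H209.PiSpor.inner_Co3 iso α
    exact ⟨s, hs.symm⟩
  intro s hs hcard ⟨g, hg⟩
  have hdvd : ∀ p ∈ s, p ∣ orderOf g := fun p hp => hg ▸ Finset.dvd_prod_of_mem _ hp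
  -- the primes of the family divide the order of the centralizer of a member
  have hcen : ∀ q ∈ s, ∃ y : G, orderOf y = q ∧ ∀ p ∈ s, p ∣ Nat.card (Subgroup.centralizer ({y} : Set G)) := by
    intro q hq
    obtain ⟨c, hc⟩ := hdvd q hq
    have hq0 := (hs q hq).pos
    have hg0 := orderOf_pos g
    have hc0 : c ≠ 0 := by
      rintro rfl
      rw [mul_zero] at hc
      omega
    refine ⟨g ^ c, ?_, fun p hp => ?_⟩
    · rw [orderOf_pow_of_dvd hc0 ⟨q, by rw [hc, mul_comm]⟩, hc, Nat.mul_div_cancel _ (Nat.pos_of_ne_zero hc0)]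
    · have h1 : g ∈ Subgroup.centralizer ({g ^ c} : Set G) :=
        Subgroup.mem_centralizer_singleton_iff.2 ((Commute.refl g).pow_right c).eq
      refine (hdvd p hp).trans ?_
      rw [← Subgroup.orderOf_mk g h1]
      exact orderOf_dvd_natCard _
  have hle : ∀ T : Finset ℕ, s ⊆ T → ∑ p ∈ s, β p ≤ ∑ p ∈ T, β p := fun T hT =>
    Finset.sum_le_sum_of_subset_of_nonneg hT fun p _ _ => β_nonneg p
  by_cases h23 : 23 ∈ s
  · obtain ⟨y, hy, h⟩ := hcen 23 h23
    rw [cent_23 hy] at h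
    refine (hle {23} fun p hp => ?_).trans_lt (by norm_num [β])
    rw [Finset.mem_singleton]
    exact (Nat.prime_dvd_prime_iff_eq (hs p hp) (by norm_num)).1 (h p hp)
  by_cases h11 : 11 ∈ s
  · obtain ⟨y, hy, h⟩ := hcen 11 h11
    rw [cent_eleven hy] at h
    refine (hle {2, 11} fun p hp => ?_).trans_lt (by norm_num [β])
    have h1 : p ∣ 2 * 11 := h p hp
    rw [Finset.mem_insert, Finset.mem_singleton]
    exact ((hs p hp).dvd_mul.1 h1).imp (Nat.prime_dvd_prime_iff_eq (hs p hp) (by norm_num)).1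
      (Nat.prime_dvd_prime_iff_eq (hs p hp) (by norm_num)).1
  by_cases h7 : 7 ∈ s
  · obtain ⟨y, hy, h⟩ := hcen 7 h7
    rw [cent_seven hy] at h
    refine (hle {2, 3, 7} fun p hp => ?_).trans_lt (by norm_num [β])
    have h1 : p ∣ 2 * (3 * 7) := h p hp
    rw [Finset.mem_insert, Finset.mem_insert, Finset.mem_singleton]
    refine ((hs p hp).dvd_mul.1 h1).imp (Nat.prime_dvd_prime_iff_eq (hs p hp) (by norm_num)).1 fun h2 => ?_
    exact ((hs p hp).dvd_mul.1 h2).imp (Nat.prime_dvd_prime_iff_eq (hs p hp) (by norm_num)).1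
      (Nat.prime_dvd_prime_iff_eq (hs p hp) (by norm_num)).1
  · refine (hle {2, 3, 5} fun p hp => ?_).trans_lt (by norm_num [β])
    have hd : p ∣ Nat.card G := (hdvd p hp).trans (orderOf_dvd_natCard g)
    rw [Finset.mem_insert, Finset.mem_insert, Finset.mem_singleton]
    rcases prime_cases (hs p hp) hd with rfl | rfl | rfl | rfl | rfl | rfl
    · exact Or.inl rfl
    · exact Or.inr (Or.inl rfl)
    · exact Or.inr (Or.inr rfl)
    · exact absurd hp h7
    · exact absurd hp h11
    · exact absurd hp h23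

/-- `Co₃` is not commutative -/
theorem ncomm : ¬ IsMulCommutative G := by
  have hs := simple
  have hf := fin
  intro h
  have h1 : (Subgroup.zpowers (wd U)).Normal := ⟨fun n hn g => by
    have : g * n * g⁻¹ = n := by rw [h.is_comm.comm g n, mul_assoc, mul_inv_cancel, mul_one]
    rwa [this]⟩
  rcases h1.eq_bot_or_eq_top with h2 | h2
  · have h3 := Nat.card_zpowers (wd U)
    rw [h2, oU, Subgroup.card_bot] at h3
    omega
  · have h3 := Nat.card_zpowers (wd U)
    rw [h2, oU, Subgroup.card_top, card] at h3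
    revert h3
    decide +kernel

/-- **the row `Co₃` of S3509** -/
theorem rc_G (B : Eng.Base) : RC G := by
  have := fin
  exact rc_of_noCov simple ncomm (noCov B)

/-- **the row `Co₃` of S3509** -/
theorem rc (B : Eng.Base) {S : Type} [Group S] (h : Spor.IsoCo3 S) : RC S := by
  obtain ⟨e⟩ := h
  exact (rc_G B).congr e.symm

end Cfsg.Agent.H474.RG.Co3
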