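import Cfsg.Agent.H345.RG.Wrd
import Cfsg.Agent.H147.Fpr.Co3
import Cfsg.Agent.H763.Co3.Fin

/-!
# Regular cycles (S3509): the row `Co₃` (helper474)

`Co₃` on 552 points (model and class list of helper763, word engine of helper345, subgroups of order divisible by 23 of
helper147).

* `topN` : a subgroup of `N ≅ Co₃` with elements of orders 23, 14, 21 and an inverted element of order 7 is `N`;
* `gp_all` : three conjugates of an involution, two conjugates of an element of order 3 or 5 generate `N`;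
* `minIx` : proper subgroups have index at least 276;
* **`rc`** : `RC S` for `S ≅ Co₃`.
-/

set_option autoImplicit false
set_option maxRecDepth 1000000
set_option exponentiation.threshold 5000

namespace Cfsg.Agent.H474.RG.Co3

open Cfsg Cfsg.Agent.H123.Cls Cfsg.Agent.H763.Cls Cfsg.Agent.H763.Co3.Dat Cfsg.Agent.Lib.BitNet
open Cfsg.Agent.H763.Co3.Model (N A2 A_conj tabs_ok)
open Cfsg.Agent.H763.Co3.Fin (base_ok cov eN)
open Cfsg.Agent.H345.RG Cfsg.Agent.H940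

/-! ### subgroups of `N` -/

section top

open Cfsg.Agent.H147.Fpr.Co3 (order_two_primes)

theorem topN (B : Eng.Base) {K : Subgroup N} {z a b t x : N} (hz : z ∈ K) (ha : a ∈ K) (hb : b ∈ K) (ht : t ∈ K)
    (hx : x ∈ K) (z1 : z ^ 23 = 1) (z0 : z ≠ 1) (a1 : a ^ 14 = 1) (a2 : a ^ 2 ≠ 1) (a7 : a ^ 7 ≠ 1) (b1 : b ^ 21 = 1)
    (b3 : b ^ 3 ≠ 1) (b7 : b ^ 7 ≠ 1) (t1 : t ^ 2 = 1) (x1 : x ^ 7 = 1) (x0 : x ≠ 1) (tx : (t * x) ^ 2 = 1) : K = ⊤ := by
  have := Cfsg.Agent.H970.Sep.RowCo3.fin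
  let f : Spor.Co3 →* N := eN.toMonoidHom
  have hs : ∀ y : N, f (eN.symm y) = y := fun y => eN.apply_symm_apply y
  have hm : ∀ {y : N}, y ∈ K → eN.symm y ∈ K.comap f := fun {y} hy => by
    rw [Subgroup.mem_comap, hs]; exact hy
  have e1 : ∀ {y : N} {k : ℕ}, y ^ k = 1 → (eN.symm y) ^ k = 1 := fun {y k} h => by rw [← map_pow, h, map_one]
  have e0 : ∀ {y : N} {k : ℕ}, y ^ k ≠ 1 → (eN.symm y) ^ k ≠ 1 := fun {y k} h h' => h (by
    apply eN.symm.injective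
    rw [map_pow, h', map_one])
  have e0' : ∀ {y : N}, y ≠ 1 → eN.symm y ≠ 1 := fun {y} h h' => h (by
    apply eN.symm.injective
    rw [h', map_one])
  have hz' : orderOf (eN.symm z) = 23 := by
    have : Fact (Nat.Prime 23) := ⟨by norm_num⟩
    exact orderOf_eq_prime (e1 z1) (e0' z0)
  have hx' : orderOf (eN.symm x) = 7 := by
    have : Fact (Nat.Prime 7) := ⟨by norm_num⟩
    exact orderOf_eq_prime (e1 x1) (e0' x0)
  have h23 : 23 ∣ Nat.card (K.comap f) := by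
    rw [← hz', ← Subgroup.orderOf_mk _ (hm hz)]
    exact orderOf_dvd_natCard _
  have key := Cfsg.Agent.H147.Fpr.Co3.top_of B (K := K.comap f) h23 (hm ha) (hm hb) (hm ht) (hm hx)
    (order_two_primes (p := 2) (q := 7) (by norm_num) (by norm_num) (by norm_num) (e1 a1) (e0 a2) (e0 a7))
    (order_two_primes (p := 3) (q := 7) (by norm_num) (by norm_num) (by norm_num) (e1 b1) (e0 b3) (e0 b7)) hx' (by
      have h1 : t * x * t⁻¹ = x⁻¹ := by
        have h2 : t⁻¹ = t := inv_eq_of_mul_eq_one_right (by rw [← pow_two]; exact t1)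
        rw [h2]
        refine eq_inv_of_mul_eq_one_left ?_
        rw [pow_two] at tx
        rw [← tx]; group
      rw [← map_inv, ← map_mul, ← map_mul, h1, map_inv])
  rw [eq_top_iff]
  intro y _
  have h3 : eN.symm y ∈ K.comap f := by rw [key]; trivial
  rw [Subgroup.mem_comap, hs] at h3
  exact h3

end top

/-! ### the certificates -/

/-- all checks of a certificate, `T` = table of the element and the tables of the generators -/
noncomputable def chkAll (T : List ℕ) (cs : List (List ℕ × List ℕ)) (z a b t x : List ℕ) : Bool :=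
  band (cInv 10 T bs cs)
    (band (band (chkPow 10 T bs (ex 0 cs z) 23) (cNe 10 T bs (ex 0 cs z) 1))
    (band (band (chkPow 10 T bs (ex 0 cs a) 14) (band (cNe 10 T bs (ex 0 cs a) 2) (cNe 10 T bs (ex 0 cs a) 7)))
    (band (band (chkPow 10 T bs (ex 0 cs b) 21) (band (cNe 10 T bs (ex 0 cs b) 3) (cNe 10 T bs (ex 0 cs b) 7)))
    (band (chkPow 10 T bs (ex 0 cs t) 2)
    (band (band (chkPow 10 T bs (ex 0 cs x) 7) (cNe 10 T bs (ex 0 cs x) 1))
      (chkPow 10 T bs (ex 0 cs (t ++ x)) 2))))))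

/-- the tables with the table of `r` in front -/
theorem tabs_cons {P : ℕ} {r : Equiv.Perm (Fin 552)} (hr : r ∈ N) (hrp : ∀ p : Fin 552, (r p : ℕ) = lk 10 P p) :
    Tabs 10 N (P :: gens) := by
  intro x hx
  rcases x with _ | x
  · exact ⟨r, hr, hrp⟩
  · exact tabs_ok x (by simpa using hx)

theorem lt_zero {P : ℕ} {r : Equiv.Perm (Fin 552)} (hr : r ∈ N) (hrp : ∀ p : Fin 552, (r p : ℕ) = lk 10 P p) :
    (lt (tabs_cons hr hrp) 0 : Equiv.Perm (Fin 552)) = r := by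
  ext p
  rw [lt_apply (tabs_cons hr hrp) (by simp), hrp]
  rfl

theorem gp_of (B : Eng.Base) {P : ℕ} {cs : List (List ℕ × List ℕ)} {z a b t x : List ℕ}
    (h : chkAll (P :: gens) cs z a b t x = true) {r : Equiv.Perm (Fin 552)} (hr : r ∈ N)
    (hrp : ∀ p : Fin 552, (r p : ℕ) = lk 10 P p) : GP N cs.length r := by
  have ht := tabs_cons hr hrp
  obtain ⟨h0, h⟩ := band_true h
  obtain ⟨hz, h⟩ := band_true h
  obtain ⟨ha, h⟩ := band_true h
  obtain ⟨hb, h⟩ := band_true h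
  obtain ⟨h2, h⟩ := band_true h
  obtain ⟨hx, htx⟩ := band_true h
  obtain ⟨hz1, hz2⟩ := band_true hz
  obtain ⟨ha1, ha⟩ := band_true ha
  obtain ⟨ha2, ha3⟩ := band_true ha
  obtain ⟨hb1, hb⟩ := band_true hb
  obtain ⟨hb2, hb3⟩ := band_true hb
  obtain ⟨hx1, hx2⟩ := band_true hx
  have hm := ex_mem ht base_ok 0 h0
  have key : Gen (lt ht 0) (cs.map fun c => va ht c.1) = ⊤ :=
    topN B (hm z) (hm a) (hm b) (hm t) (hm x) (pow_eq_one ht base_ok hz1)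
      (by have := pow_ne_one ht base_ok hz2; rwa [pow_one] at this)
      (pow_eq_one ht base_ok ha1) (pow_ne_one ht base_ok ha2) (pow_ne_one ht base_ok ha3)
      (pow_eq_one ht base_ok hb1) (pow_ne_one ht base_ok hb2) (pow_ne_one ht base_ok hb3)
      (pow_eq_one ht base_ok h2) (pow_eq_one ht base_ok hx1)
      (by have := pow_ne_one ht base_ok hx2; rwa [pow_one] at this)
      (by
        rw [← va_append, ← ex_append]
        exact pow_eq_one ht base_ok htx)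
  have h3 := GP.of_gen key
  rw [List.length_map, lt_zero hr hrp] at h3
  exact h3

theorem ck0 : chkAll (p0 :: gens)
    [([], []), ([8, 6, 4], [12, 14, 16])]
    [1, 0, 1, 0, 1, 0, 0, 1, 1, 0, 0, 1, 0, 0]
    [0, 1, 0, 0, 1, 0, 1, 0, 1, 0, 0, 1, 0, 0, 1, 1]
    [0, 1, 0, 1, 0, 1, 0, 0, 1]
    [1, 0, 0, 1, 0, 0, 1, 0, 0, 1, 1, 0, 0, 1, 0, 0, 1, 0, 0, 1, 0, 0]
    [1, 0, 0, 1, 0, 0, 1, 0, 0, 1, 1, 0, 0, 1, 0, 0, 1, 0, 0, 1, 0, 0, 0, 1, 0, 0, 1, 0, 0, 1, 0, 0, 1, 1, 0, 0, 1, 0, 0, 1, 0, 0, 1, 0, 0, 0, 0] = true := by decide +kernel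

theorem ck4 : chkAll (p4 :: gens)
    [([], []), ([4, 3, 16, 1], [9, 8, 11, 12])]
    [0, 1, 0]
    [1, 0, 1]
    [1, 0, 0, 0, 0, 1, 0, 0, 0, 0, 1, 0]
    [0, 1, 0, 1, 0, 1, 0, 1, 0, 1]
    [0, 1, 0, 1, 0, 1, 0, 1, 0, 1, 0, 0, 0, 0, 1, 0, 0, 0, 0, 0, 1, 0, 1, 0, 1, 0, 1, 0, 1, 0, 0, 0, 0, 0, 0, 0, 0, 0, 0, 0, 0, 0, 0, 0, 0, 1, 1, 1, 1, 0, 0, 0, 0, 0, 0, 0, 0, 0, 0, 0, 0, 0, 0, 0, 0] = true := by decide +kernel

theorem ck10 : chkAll (p10 :: gens)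
    [([], []), ([4, 8, 10], [2, 16, 12])]
    [1, 0]
    [1, 0, 0, 1, 0, 1, 1, 0]
    [1, 1, 0, 1, 0, 0, 1, 0, 0]
    [0, 1, 0, 0, 1, 0, 0, 1, 0, 1, 0, 0, 1, 0, 0, 1, 0, 1, 0, 0, 1, 0, 0, 1]
    [0, 1, 0, 0, 1, 0, 0, 1, 0, 1, 0, 0, 1, 0, 0, 1, 0, 1, 0, 0, 1, 0, 0, 1, 0, 0, 1, 0, 0, 1, 0, 0, 1, 0, 1, 0, 0, 1, 0, 0, 1, 0, 1, 0, 0, 1, 0, 0, 1, 0, 0] = true := by decide +kernel

theorem ck17 : chkAll (p17 :: gens)
    [([], []), ([14, 16, 11, 8, 4, 8, 6, 1], [9, 14, 16, 12, 16, 3, 8, 6]), ([8, 6, 16, 13, 4, 16, 4, 3], [11, 12, 8, 12, 5, 8, 14, 16])]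
    [2, 1, 0]
    [2, 0]
    [0, 1]
    [0]
    [0, 2, 0, 2] = true := by decide +kernel

theorem ck38 : chkAll (p38 :: gens)
    [([], []), ([4, 8, 12, 16, 15], [7, 8, 4, 16, 12])]
    [1, 0, 1]
    [0, 1]
    [0, 1, 0, 0, 0, 0, 1, 0]
    [0, 1, 0, 0, 1, 0, 0, 1, 0]
    [0, 1, 0, 0, 1, 0, 0, 1, 0, 0, 0, 1, 0, 0, 1, 0, 0, 1, 0, 0, 0, 0, 0] = true := by decide +kernel

theorem ck40 : chkAll (p40 :: gens)
    [([], []), ([14, 16, 6, 2, 4, 8], [16, 12, 10, 14, 8, 6]), ([4, 3, 8, 6, 3, 8, 5, 6, 4, 8], [16, 12, 14, 13, 16, 11, 14, 16, 11, 12])]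
    [2, 0, 1, 0, 2, 0, 2, 1]
    [1, 2, 0, 2, 0]
    [2, 1, 0]
    [0, 1, 0, 2, 0, 1, 0, 1, 2, 0, 2, 0, 1, 0, 2, 0, 1, 0, 1, 2, 0, 2, 0, 1, 0, 2, 0, 1, 0, 1, 2, 0, 2]
    [0, 1, 0, 2, 0, 1, 0, 1, 2, 0, 2, 0, 1, 0, 2, 0, 1, 0, 1, 2, 0, 2, 0, 1, 0, 2, 0, 1, 0, 1, 2, 0, 2, 0, 1, 0, 1, 0, 2, 0, 1, 0, 1, 2, 0, 2, 0, 1, 0, 2, 0, 1, 0, 1, 2, 0, 2, 0, 1, 0, 2, 0, 1, 0, 1, 2, 0, 2, 1, 0] = true := by decide +kernel

theorem ck41 : chkAll (p41 :: gens)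
    [([], []), ([14, 16, 13, 3, 4], [12, 11, 5, 8, 6])]
    [0, 0, 1]
    [1, 0, 1, 0, 1, 0, 0]
    [0, 1, 0, 0, 1, 0, 0, 1, 0, 1]
    [1, 0, 1, 1, 0, 1, 0, 1, 0, 0, 1, 0, 1, 1, 0, 1, 0, 1, 0, 0, 1, 0, 1, 1, 0, 1, 0, 1, 0, 0]
    [1, 0, 1, 1, 0, 1, 0, 1, 0, 0, 1, 0, 1, 1, 0, 1, 0, 1, 0, 0, 1, 0, 1, 1, 0, 1, 0, 1, 0, 0, 0, 1, 0, 1, 1, 0, 1, 0, 1, 0, 0, 1, 0, 1, 1, 0, 1, 0, 1, 0, 0, 1, 0, 1, 1, 0, 1, 0, 1, 0, 0, 0, 0] = true := by decide +kernel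

/-- the property of the class representatives -/
def Q (r : Equiv.Perm (Fin 552)) : Prop :=
  (r ^ 2 = 1 → r ≠ 1 → GP N 3 r) ∧ (r ^ 3 = 1 → r ≠ 1 → GP N 2 r) ∧ (r ^ 5 = 1 → r ≠ 1 → GP N 2 r)

/-- three checks -/
noncomputable def chk3 (T : List ℕ) (k l m : ℕ) : Bool :=
  band (cNe 10 T bs [0] k) (band (cNe 10 T bs [0] l) (cNe 10 T bs [0] m))

theorem ne_of {P : ℕ} {r : Equiv.Perm (Fin 552)} (hr : r ∈ N) (hrp : ∀ p : Fin 552, (r p : ℕ) = lk 10 P p) {k : ℕ}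
    (h : cNe 10 (P :: gens) bs [0] k = true) : r ^ k ≠ 1 := by
  intro h1
  apply pow_ne_one (tabs_cons hr hrp) base_ok h
  apply Subtype.ext
  rw [va_one, Subgroup.coe_pow, lt_zero hr hrp, h1]
  rfl

/-- the property of a table -/
def QP (P : ℕ) : Prop := ∀ r ∈ N, (∀ p : Fin 552, (r p : ℕ) = lk 10 P p) → Q r

theorem q_of {P : ℕ} (h : chk3 (P :: gens) 2 3 5 = true) : QP P := by
  obtain ⟨h1, h⟩ := band_true h
  obtain ⟨h2, h3⟩ := band_true h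
  intro r hr hrp
  exact ⟨fun h => absurd h (ne_of hr hrp h1), fun h => absurd h (ne_of hr hrp h2), fun h => absurd h (ne_of hr hrp h3)⟩

theorem q_two (B : Eng.Base) {P : ℕ} {cs : List (List ℕ × List ℕ)} {z a b t x : List ℕ}
    (h : chkAll (P :: gens) cs z a b t x = true) (hl : cs.length = 3)
    (h3 : cNe 10 (P :: gens) bs [0] 3 = true) (h5 : cNe 10 (P :: gens) bs [0] 5 = true) : QP P := by
  intro r hr hrp
  refine ⟨fun _ _ => ?_, fun h => absurd h (ne_of hr hrp h3), fun h => absurd h (ne_of hr hrp h5)⟩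
  have h1 := gp_of B h hr hrp
  rwa [hl] at h1

theorem q_odd (B : Eng.Base) {P : ℕ} {cs : List (List ℕ × List ℕ)} {z a b t x : List ℕ}
    (h : chkAll (P :: gens) cs z a b t x = true) (hl : cs.length = 2)
    (h2 : cNe 10 (P :: gens) bs [0] 2 = true) : QP P := by
  intro r hr hrp
  have h1 := gp_of B h hr hrp
  rw [hl] at h1
  exact ⟨fun h => absurd h (ne_of hr hrp h2), fun _ _ => h1, fun _ _ => h1⟩

theorem q_one {P : ℕ} (h : chkPow 10 (P :: gens) bs [0] 1 = true) : QP P := by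
  intro r hr hrp
  have h1 := pow_eq_one (tabs_cons hr hrp) base_ok h
  rw [pow_one, va_one] at h1
  have h2 : r = 1 := by rw [← lt_zero hr hrp, h1]; rfl
  exact ⟨fun _ h => absurd h2 h, fun _ h => absurd h2 h, fun _ h => absurd h2 h⟩

theorem c1 : chkPow 10 (p1 :: gens) bs [0] 1 = true := by decide +kernel
theorem c2 : chk3 (p2 :: gens) 2 3 5 = true := by decide +kernel
theorem c3 : chk3 (p3 :: gens) 2 3 5 = true := by decide +kernel
theorem c5 : chk3 (p5 :: gens) 2 3 5 = true := by decide +kernel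
theorem c6 : chk3 (p6 :: gens) 2 3 5 = true := by decide +kernel
theorem c7 : chk3 (p7 :: gens) 2 3 5 = true := by decide +kernel
theorem c8 : chk3 (p8 :: gens) 2 3 5 = true := by decide +kernel
theorem c9 : chk3 (p9 :: gens) 2 3 5 = true := by decide +kernel
theorem c11 : chk3 (p11 :: gens) 2 3 5 = true := by decide +kernel
theorem c12 : chk3 (p12 :: gens) 2 3 5 = true := by decide +kernel
theorem c13 : chk3 (p13 :: gens) 2 3 5 = true := by decide +kernel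
theorem c14 : chk3 (p14 :: gens) 2 3 5 = true := by decide +kernel
theorem c15 : chk3 (p15 :: gens) 2 3 5 = true := by decide +kernel
theorem c16 : chk3 (p16 :: gens) 2 3 5 = true := by decide +kernel
theorem c18 : chk3 (p18 :: gens) 2 3 5 = true := by decide +kernel
theorem c19 : chk3 (p19 :: gens) 2 3 5 = true := by decide +kernel
theorem c20 : chk3 (p20 :: gens) 2 3 5 = true := by decide +kernel
theorem c21 : chk3 (p21 :: gens) 2 3 5 = true := by decide +kernel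
theorem c22 : chk3 (p22 :: gens) 2 3 5 = true := by decide +kernel
theorem c23 : chk3 (p23 :: gens) 2 3 5 = true := by decide +kernel
theorem c24 : chk3 (p24 :: gens) 2 3 5 = true := by decide +kernel
theorem c25 : chk3 (p25 :: gens) 2 3 5 = true := by decide +kernel
theorem c26 : chk3 (p26 :: gens) 2 3 5 = true := by decide +kernel
theorem c27 : chk3 (p27 :: gens) 2 3 5 = true := by decide +kernel
theorem c28 : chk3 (p28 :: gens) 2 3 5 = true := by decide +kernel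
theorem c29 : chk3 (p29 :: gens) 2 3 5 = true := by decide +kernel
theorem c30 : chk3 (p30 :: gens) 2 3 5 = true := by decide +kernel
theorem c31 : chk3 (p31 :: gens) 2 3 5 = true := by decide +kernel
theorem c32 : chk3 (p32 :: gens) 2 3 5 = true := by decide +kernel
theorem c33 : chk3 (p33 :: gens) 2 3 5 = true := by decide +kernel
theorem c34 : chk3 (p34 :: gens) 2 3 5 = true := by decide +kernel
theorem c35 : chk3 (p35 :: gens) 2 3 5 = true := by decide +kernel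
theorem c36 : chk3 (p36 :: gens) 2 3 5 = true := by decide +kernel
theorem c37 : chk3 (p37 :: gens) 2 3 5 = true := by decide +kernel
theorem c39 : chk3 (p39 :: gens) 2 3 5 = true := by decide +kernel

theorem q_all (B : Eng.Base) : ∀ x ∈ D, QP x.1 :=
  List.forall_mem_cons.2 ⟨q_odd B ck0 rfl (by decide +kernel),
  List.forall_mem_cons.2 ⟨q_one c1,
  List.forall_mem_cons.2 ⟨q_of c2,
  List.forall_mem_cons.2 ⟨q_of c3,
  List.forall_mem_cons.2 ⟨q_odd B ck4 rfl (by decide +kernel),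
  List.forall_mem_cons.2 ⟨q_of c5,
  List.forall_mem_cons.2 ⟨q_of c6,
  List.forall_mem_cons.2 ⟨q_of c7,
  List.forall_mem_cons.2 ⟨q_of c8,
  List.forall_mem_cons.2 ⟨q_of c9,
  List.forall_mem_cons.2 ⟨q_odd B ck10 rfl (by decide +kernel),
  List.forall_mem_cons.2 ⟨q_of c11,
  List.forall_mem_cons.2 ⟨q_of c12,
  List.forall_mem_cons.2 ⟨q_of c13,
  List.forall_mem_cons.2 ⟨q_of c14,
  List.forall_mem_cons.2 ⟨q_of c15,
  List.forall_mem_cons.2 ⟨q_of c16,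
  List.forall_mem_cons.2 ⟨q_two B ck17 rfl (by decide +kernel) (by decide +kernel),
  List.forall_mem_cons.2 ⟨q_of c18,
  List.forall_mem_cons.2 ⟨q_of c19,
  List.forall_mem_cons.2 ⟨q_of c20,
  List.forall_mem_cons.2 ⟨q_of c21,
  List.forall_mem_cons.2 ⟨q_of c22,
  List.forall_mem_cons.2 ⟨q_of c23,
  List.forall_mem_cons.2 ⟨q_of c24,
  List.forall_mem_cons.2 ⟨q_of c25,
  List.forall_mem_cons.2 ⟨q_of c26,
  List.forall_mem_cons.2 ⟨q_of c27,
  List.forall_mem_cons.2 ⟨q_of c28,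
  List.forall_mem_cons.2 ⟨q_of c29,
  List.forall_mem_cons.2 ⟨q_of c30,
  List.forall_mem_cons.2 ⟨q_of c31,
  List.forall_mem_cons.2 ⟨q_of c32,
  List.forall_mem_cons.2 ⟨q_of c33,
  List.forall_mem_cons.2 ⟨q_of c34,
  List.forall_mem_cons.2 ⟨q_of c35,
  List.forall_mem_cons.2 ⟨q_of c36,
  List.forall_mem_cons.2 ⟨q_of c37,
  List.forall_mem_cons.2 ⟨q_odd B ck38 rfl (by decide +kernel),
  List.forall_mem_cons.2 ⟨q_of c39,
  List.forall_mem_cons.2 ⟨q_two B ck40 rfl (by decide +kernel) (by decide +kernel),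
  List.forall_mem_cons.2 ⟨q_odd B ck41 rfl (by decide +kernel),
  List.forall_mem_nil _⟩⟩⟩⟩⟩⟩⟩⟩⟩⟩⟩⟩⟩⟩⟩⟩⟩⟩⟩⟩⟩⟩⟩⟩⟩⟩⟩⟩⟩⟩⟩⟩⟩⟩⟩⟩⟩⟩⟩⟩⟩⟩

/-- **generation by conjugates** -/
theorem gp_all (B : Eng.Base) {g : Equiv.Perm (Fin 552)} (hg : g ∈ N) : Q g := by
  obtain ⟨x, hx, r, hr, hrp, b, hb, rfl⟩ := cov g hg
  obtain ⟨h2, h3, h5⟩ := q_all B x hx r hr hrp
  have e1 : ∀ {k : ℕ}, (b * r * b⁻¹) ^ k = 1 → r ^ k = 1 := fun {k} h => by
    rw [conj_pow] at h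
    have h6 : b * r ^ k = b := by
      rw [mul_inv_eq_one] at h
      exact h
    exact mul_eq_left.1 h6
  have e0 : b * r * b⁻¹ ≠ 1 → r ≠ 1 := fun h h' => h (by rw [h', mul_one, mul_inv_cancel])
  have hc : ∀ {k : ℕ}, GP N k r → GP N k (b * r * b⁻¹) := fun h => h.conj (fun _ ha _ hx => A_conj ha hx) hb
  exact ⟨fun h h' => hc (h2 (e1 h) (e0 h')), fun h h' => hc (h3 (e1 h) (e0 h')), fun h h' => hc (h5 (e1 h) (e0 h'))⟩

end Cfsg.Agent.H474.RG.Co3
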